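import Cfsg.Agent.Lib.Jk.M

set_option autoImplicit false
set_option maxRecDepth 100000

/-! # Computed facts about the model -/

namespace Cfsg.Agent.Lib.Jk

def f0 : M := ⟨16, 0⟩
def tx : M := ⟨0, 31⟩
def UL : List M := [1, t0, x4, tx]
def WX : List M := [⟨16, 0⟩, ⟨5, 0⟩, ⟨1, 0⟩, ⟨2, 0⟩, ⟨0, 0⟩, ⟨16, 2⟩, ⟨5, 1⟩, ⟨1, 1⟩, ⟨2, 1⟩, ⟨0, 1⟩]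
def WV : List M := [⟨16, 0⟩, ⟨16, 10⟩, ⟨16, 2⟩, ⟨16, 14⟩, ⟨16, 6⟩, ⟨16, 12⟩, ⟨16, 4⟩, ⟨16, 8⟩, ⟨20, 0⟩, ⟨20, 12⟩, ⟨20, 2⟩, ⟨20, 4⟩, ⟨20, 10⟩, ⟨20, 6⟩, ⟨20, 8⟩, ⟨20, 14⟩, ⟨22, 0⟩, ⟨22, 6⟩, ⟨22, 4⟩, ⟨22, 14⟩, ⟨22, 12⟩, ⟨22, 10⟩, ⟨22, 8⟩, ⟨22, 2⟩, ⟨1, 0⟩, ⟨1, 1⟩, ⟨1, 9⟩, ⟨1, 11⟩, ⟨1, 3⟩, ⟨1, 2⟩, ⟨1, 10⟩, ⟨1, 8⟩, ⟨0, 0⟩, ⟨0, 1⟩, ⟨0, 4⟩, ⟨0, 5⟩, ⟨0, 3⟩, ⟨0, 2⟩, ⟨0, 7⟩, ⟨0, 6⟩, ⟨2, 0⟩, ⟨2, 1⟩, ⟨2, 6⟩, ⟨2, 4⟩, ⟨2, 3⟩, ⟨2, 2⟩, ⟨2, 5⟩, ⟨2, 7⟩, ⟨5, 0⟩, ⟨5, 12⟩, ⟨5, 1⟩, ⟨5, 13⟩, ⟨5, 5⟩, ⟨5, 9⟩, ⟨5, 4⟩, ⟨5, 8⟩, ⟨4, 0⟩, ⟨4, 1⟩, ⟨4, 2⟩, ⟨4, 6⟩,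 ⟨4, 5⟩, ⟨4, 4⟩, ⟨4, 7⟩, ⟨4, 3⟩, ⟨3, 0⟩, ⟨3, 1⟩, ⟨3, 3⟩, ⟨3, 7⟩, ⟨3, 5⟩, ⟨3, 4⟩, ⟨3, 6⟩, ⟨3, 2⟩, ⟨7, 0⟩, ⟨7, 5⟩, ⟨7, 1⟩, ⟨7, 4⟩, ⟨7, 9⟩, ⟨7, 12⟩, ⟨7, 8⟩, ⟨7, 13⟩, ⟨6, 0⟩, ⟨6, 2⟩, ⟨6, 1⟩, ⟨6, 3⟩, ⟨6, 6⟩, ⟨6, 4⟩, ⟨6, 7⟩, ⟨6, 5⟩, ⟨8, 0⟩, ⟨8, 10⟩, ⟨8, 1⟩, ⟨8, 11⟩, ⟨8, 9⟩, ⟨8, 3⟩, ⟨8, 8⟩, ⟨8, 2⟩, ⟨11, 0⟩, ⟨11, 9⟩, ⟨11, 4⟩, ⟨11, 1⟩, ⟨11, 12⟩, ⟨11, 5⟩, ⟨11, 8⟩, ⟨11, 13⟩, ⟨10, 0⟩, ⟨10, 2⟩, ⟨10, 5⟩, ⟨10, 1⟩, ⟨10, 6⟩, ⟨10, 4⟩, ⟨10, 3⟩, ⟨10, 7⟩, ⟨9, 0⟩, ⟨9, 3⟩, ⟨9, 2⟩, ⟨9, 1⟩, ⟨9, 10⟩, ⟨9, 9⟩, ⟨9, 8⟩, ⟨9, 11⟩]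
def AL : List M := [⟨0, 0⟩, ⟨0, 15⟩, ⟨0, 16⟩, ⟨0, 31⟩, ⟨13, 0⟩, ⟨13, 15⟩, ⟨13, 16⟩, ⟨13, 31⟩, ⟨30, 0⟩, ⟨30, 15⟩, ⟨30, 16⟩, ⟨30, 31⟩, ⟨43, 0⟩, ⟨43, 15⟩, ⟨43, 16⟩, ⟨43, 31⟩]
def W12 : List M := [⟨0, 0⟩, ⟨0, 5⟩, ⟨0, 3⟩, ⟨0, 6⟩, ⟨4, 0⟩, ⟨4, 6⟩, ⟨4, 5⟩, ⟨4, 3⟩, ⟨6, 0⟩, ⟨6, 3⟩, ⟨6, 6⟩, ⟨6, 5⟩]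
def W24 : List M := [⟨0, 0⟩, ⟨0, 1⟩, ⟨0, 4⟩, ⟨0, 5⟩, ⟨0, 3⟩, ⟨0, 2⟩, ⟨0, 7⟩, ⟨0, 6⟩, ⟨4, 0⟩, ⟨4, 1⟩, ⟨4, 2⟩, ⟨4, 6⟩, ⟨4, 5⟩, ⟨4, 4⟩, ⟨4, 7⟩, ⟨4, 3⟩, ⟨6, 0⟩, ⟨6, 2⟩, ⟨6, 1⟩, ⟨6, 3⟩, ⟨6, 6⟩, ⟨6, 4⟩, ⟨6, 7⟩, ⟨6, 5⟩]
def W3 : List M := [⟨32, 0⟩, ⟨32, 4⟩, ⟨32, 8⟩, ⟨32, 12⟩, ⟨35, 0⟩, ⟨35, 12⟩, ⟨35, 4⟩, ⟨35, 8⟩, ⟨16, 0⟩, ⟨16, 2⟩, ⟨16, 4⟩, ⟨16, 6⟩, ⟨17, 0⟩, ⟨17, 2⟩, ⟨17, 4⟩, ⟨17, 6⟩, ⟨19, 0⟩, ⟨19, 2⟩, ⟨19, 4⟩, ⟨19, 6⟩, ⟨20, 0⟩, ⟨20, 2⟩, ⟨20, 10⟩, ⟨20, 8⟩, ⟨22, 0⟩, ⟨22, 4⟩, ⟨22, 6⟩, ⟨22, 2⟩, ⟨23, 0⟩, ⟨23, 10⟩, ⟨23, 8⟩, ⟨23, 2⟩, ⟨0, 0⟩, ⟨0,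 1⟩, ⟨0, 2⟩, ⟨0, 3⟩, ⟨1, 0⟩, ⟨1, 1⟩, ⟨1, 2⟩, ⟨1, 3⟩, ⟨2, 0⟩, ⟨2, 1⟩, ⟨2, 2⟩, ⟨2, 3⟩, ⟨3, 0⟩, ⟨3, 1⟩, ⟨3, 2⟩, ⟨3, 3⟩, ⟨4, 0⟩, ⟨4, 1⟩, ⟨4, 4⟩, ⟨4, 5⟩, ⟨5, 0⟩, ⟨5, 1⟩, ⟨5, 4⟩, ⟨5, 5⟩, ⟨6, 0⟩, ⟨6, 1⟩, ⟨6, 2⟩, ⟨6, 3⟩, ⟨7, 0⟩, ⟨7, 1⟩, ⟨7, 4⟩, ⟨7, 5⟩, ⟨8, 0⟩, ⟨8, 1⟩, ⟨8, 8⟩, ⟨8, 9⟩, ⟨9, 0⟩, ⟨9, 3⟩, ⟨9, 1⟩, ⟨9, 2⟩, ⟨10, 0⟩, ⟨10, 1⟩, ⟨10, 4⟩, ⟨10, 5⟩, ⟨11, 0⟩, ⟨11, 9⟩, ⟨11, 1⟩, ⟨11, 8⟩]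
def W32 : List M := [⟨0, 0⟩, ⟨0, 3⟩, ⟨0, 5⟩, ⟨0, 6⟩, ⟨4, 0⟩, ⟨4, 3⟩, ⟨4, 5⟩, ⟨4, 6⟩, ⟨6, 0⟩, ⟨6, 3⟩, ⟨6, 5⟩, ⟨6, 6⟩, ⟨37, 0⟩, ⟨37, 3⟩, ⟨37, 5⟩, ⟨37, 6⟩]
def W5 : List M := [⟨0, 0⟩, ⟨0, 1⟩, ⟨0, 2⟩, ⟨0, 3⟩, ⟨0, 4⟩, ⟨0, 5⟩, ⟨0, 6⟩, ⟨0, 7⟩, ⟨0, 8⟩, ⟨0, 9⟩, ⟨0, 10⟩, ⟨0, 11⟩, ⟨0, 12⟩, ⟨0, 13⟩, ⟨0, 14⟩, ⟨0, 15⟩, ⟨1, 0⟩, ⟨1, 1⟩, ⟨1, 2⟩, ⟨1, 3⟩, ⟨1, 4⟩, ⟨1, 5⟩, ⟨1, 6⟩, ⟨1, 7⟩, ⟨1, 8⟩, ⟨1, 9⟩, ⟨1, 10⟩, ⟨1, 11⟩, ⟨1, 12⟩, ⟨1, 13⟩, ⟨1, 14⟩, ⟨1, 15⟩, ⟨2, 0⟩, ⟨2, 1⟩, ⟨2, 2⟩, ⟨2, 3⟩, ⟨2, 4⟩, ⟨2, 5⟩, ⟨2, 6⟩, ⟨2, 7⟩, ⟨2, 8⟩, ⟨2, 9⟩, ⟨2, 10⟩, ⟨2, 11⟩,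 ⟨2, 12⟩, ⟨2, 13⟩, ⟨2, 14⟩, ⟨2, 15⟩, ⟨3, 0⟩, ⟨3, 1⟩, ⟨3, 2⟩, ⟨3, 3⟩, ⟨3, 4⟩, ⟨3, 5⟩, ⟨3, 6⟩, ⟨3, 7⟩, ⟨3, 8⟩, ⟨3, 9⟩, ⟨3, 10⟩, ⟨3, 11⟩, ⟨3, 12⟩, ⟨3, 13⟩, ⟨3, 14⟩, ⟨3, 15⟩, ⟨4, 0⟩, ⟨4, 1⟩, ⟨4, 2⟩, ⟨4, 3⟩, ⟨4, 4⟩, ⟨4, 5⟩, ⟨4, 6⟩, ⟨4, 7⟩, ⟨4, 8⟩, ⟨4, 9⟩, ⟨4, 10⟩, ⟨4, 11⟩, ⟨4, 12⟩, ⟨4, 13⟩, ⟨4, 14⟩, ⟨4, 15⟩, ⟨5, 0⟩, ⟨5, 1⟩, ⟨5, 2⟩, ⟨5, 3⟩, ⟨5, 4⟩, ⟨5, 5⟩, ⟨5, 6⟩, ⟨5, 7⟩, ⟨5, 8⟩, ⟨5, 9⟩, ⟨5, 10⟩, ⟨5, 11⟩, ⟨5, 12⟩, ⟨5, 13⟩, ⟨5, 14⟩, ⟨5, 15⟩]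
def SL : List M := [⟨0, 0⟩, ⟨0, 7⟩, ⟨0, 8⟩, ⟨0, 15⟩, ⟨0, 16⟩, ⟨0, 23⟩, ⟨0, 24⟩, ⟨0, 31⟩, ⟨15, 0⟩, ⟨15, 7⟩, ⟨15, 8⟩, ⟨15, 15⟩, ⟨15, 16⟩, ⟨15, 23⟩, ⟨15, 24⟩, ⟨15, 31⟩, ⟨24, 0⟩, ⟨24, 7⟩, ⟨24, 8⟩, ⟨24, 15⟩, ⟨24, 16⟩, ⟨24, 23⟩, ⟨24, 24⟩, ⟨24, 31⟩]
def FL : List M := [⟨0, 0⟩, ⟨0, 16⟩, ⟨16, 0⟩, ⟨16, 16⟩, ⟨32, 0⟩, ⟨32, 16⟩, ⟨45, 0⟩, ⟨45, 16⟩, ⟨48, 0⟩, ⟨48, 16⟩]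
def IL : List M := [⟨0, 1⟩, ⟨0, 2⟩, ⟨0, 4⟩, ⟨0, 8⟩, ⟨0, 15⟩, ⟨0, 16⟩, ⟨0, 17⟩, ⟨0, 18⟩, ⟨0, 20⟩, ⟨0, 24⟩, ⟨0, 31⟩, ⟨3, 0⟩, ⟨3, 1⟩, ⟨3, 6⟩, ⟨3, 7⟩, ⟨3, 16⟩, ⟨3, 17⟩, ⟨3, 22⟩, ⟨3, 23⟩, ⟨8, 0⟩, ⟨8, 1⟩, ⟨8, 10⟩, ⟨8, 11⟩, ⟨8, 16⟩, ⟨8, 17⟩, ⟨8, 26⟩, ⟨8, 27⟩, ⟨11, 0⟩, ⟨11, 1⟩, ⟨11, 12⟩, ⟨11, 13⟩, ⟨11, 16⟩, ⟨11, 17⟩, ⟨11, 28⟩, ⟨11, 29⟩, ⟨12, 0⟩, ⟨12, 3⟩, ⟨12, 4⟩, ⟨12, 7⟩, ⟨12, 16⟩, ⟨12, 19⟩, ⟨12, 20⟩, ⟨12, 23⟩, ⟨13, 0⟩, ⟨13, 3⟩, ⟨13, 12⟩, ⟨13, 15⟩, ⟨13, 16⟩, ⟨13, 19⟩, ⟨13, 28⟩, ⟨13, 31⟩, ⟨14, 0⟩, ⟨14, 3⟩, ⟨14, 8⟩, ⟨14, 11⟩, ⟨14, 16⟩, ⟨14,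 19⟩, ⟨14, 24⟩, ⟨14, 27⟩, ⟨27, 0⟩, ⟨27, 2⟩, ⟨27, 5⟩, ⟨27, 7⟩, ⟨27, 16⟩, ⟨27, 18⟩, ⟨27, 21⟩, ⟨27, 23⟩, ⟨30, 0⟩, ⟨30, 5⟩, ⟨30, 10⟩, ⟨30, 15⟩, ⟨30, 16⟩, ⟨30, 21⟩, ⟨30, 26⟩, ⟨30, 31⟩, ⟨33, 0⟩, ⟨33, 5⟩, ⟨33, 8⟩, ⟨33, 13⟩, ⟨33, 16⟩, ⟨33, 21⟩, ⟨33, 24⟩, ⟨33, 29⟩, ⟨41, 0⟩, ⟨41, 2⟩, ⟨41, 9⟩, ⟨41, 11⟩, ⟨41, 16⟩, ⟨41, 18⟩, ⟨41, 25⟩, ⟨41, 27⟩, ⟨43, 0⟩, ⟨43, 6⟩, ⟨43, 9⟩, ⟨43, 15⟩, ⟨43, 16⟩, ⟨43, 22⟩, ⟨43, 25⟩, ⟨43, 31⟩, ⟨47, 0⟩, ⟨47, 4⟩, ⟨47, 9⟩, ⟨47, 13⟩, ⟨47, 16⟩, ⟨47, 20⟩, ⟨47, 25⟩, ⟨47, 29⟩, ⟨53, 0⟩, ⟨53, 2⟩, ⟨53, 12⟩, ⟨53, 14⟩, ⟨53, 16⟩, ⟨53,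 18⟩, ⟨53, 28⟩, ⟨53, 30⟩, ⟨55, 0⟩, ⟨55, 6⟩, ⟨55, 8⟩, ⟨55, 14⟩, ⟨55, 16⟩, ⟨55, 22⟩, ⟨55, 24⟩, ⟨55, 30⟩, ⟨59, 0⟩, ⟨59, 4⟩, ⟨59, 10⟩, ⟨59, 14⟩, ⟨59, 16⟩, ⟨59, 20⟩, ⟨59, 26⟩, ⟨59, 30⟩]

theorem t_comm : ∀ a, a * t0 = t0 * a := by decide +kernel
theorem inv_cases : ∀ s : M, s * s = 1 → s = 1 ∨ s = t0 ∨ (∃ g ∈ WX, g * x4 * g⁻¹ = s) ∨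
    ∃ g ∈ WV, g * v1 * g⁻¹ = s := by decide +kernel
theorem mem_AL : ∀ a, a * v1 = v1 * a → a ∈ AL := by decide +kernel
theorem AL_comm : ∀ a ∈ AL, a * a = 1 ∧ a * x4 = x4 * a ∧ a * v1 = v1 * a ∧ ∀ b ∈ AL, a * b = b * a := by
  decide +kernel
theorem AL_cases : ∀ a ∈ AL, a ∈ UL ∨ ∃ g ∈ W12, g * x4 = x4 * g ∧ g * v1 * g⁻¹ = a := by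
  decide +kernel
theorem AL_dec : ∀ a ∈ AL, ∃ u ∈ UL, ∃ v ∈ [1, v1, v3, v1 * v3], a = u * v := by decide +kernel
theorem cx_inv : ∀ b : M, b * b = 1 → b * x4 = x4 * b → b ∈ UL ∨
    ∃ g ∈ W24, g * v1 * g⁻¹ = b ∧ (g * x4 * g⁻¹ = x4 ∨ g * x4 * g⁻¹ = tx) := by decide +kernel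
theorem cx_three : ∀ y : M, y * x4 = x4 * y → y * y * y = 1 → y = 1 ∨
    ∃ g ∈ W32, g * x4 = x4 * g ∧ (g * y * g⁻¹ = sg ∨ g * y * g⁻¹ = sg⁻¹) := by decide +kernel
theorem three_cases : ∀ y : M, y * y * y = 1 → y = 1 ∨ ∃ g ∈ W3, g * sg * g⁻¹ = y := by
  decide +kernel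
theorem mem_SL : ∀ a, a * sg = sg * a → a ∈ SL := by decide +kernel
theorem mem_FL : ∀ a, a * f0 = f0 * a → a ∈ FL := by decide +kernel
theorem trace_zero : ∀ b : M, b * b = 1 → b * x4 = x4 * b → b * (sg * b * sg⁻¹) * (sg⁻¹ * b * sg) = 1 →
    b = 1 ∨ ∃ i ∈ [1, sg, sg⁻¹], i * b * i⁻¹ = v1 ∨ i * x3 * b * (i * x3)⁻¹ = v1 := by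
  decide +kernel
theorem five_cases : ∀ y : M, y * y * y * y * y = 1 → y = 1 ∨
    ∃ g ∈ W5, g * y * g⁻¹ ∈ [f0, ⟨32, 0⟩, ⟨48, 0⟩, ⟨45, 0⟩] := by decide +kernel
theorem card_cx : (Finset.univ.filter fun a : M => a * x4 = x4 * a).card = 192 := by decide +kernel
theorem mem_IL : ∀ a : M, a * a = 1 → a = 1 ∨ a ∈ IL := by decide +kernel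
theorem IL_iv : ∀ a ∈ IL, a ≠ 1 ∧ a * a = 1 := by decide +kernel
theorem nodup_IL : IL.Nodup := by decide +kernel
theorem inv_sg : ∀ a : M, a * sg * a⁻¹ = sg⁻¹ → a * a ≠ t0 ∧
    (a * a = 1 → ∃ g ∈ SL, g * n0 * g⁻¹ = a) := by decide +kernel
theorem norm_AL : ∀ a : M, a * x4 = x4 * a → ∀ b ∈ AL, a * b * a⁻¹ * v1 = v1 * (a * b * a⁻¹) := by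
  decide +kernel
theorem norm_AL' : ∀ a : M, a * x4 * a⁻¹ * v1 = v1 * (a * x4 * a⁻¹) →
    a * v1 * a⁻¹ * v1 = v1 * (a * v1 * a⁻¹) → a * x4 = x4 * a := by decide +kernel
theorem Q_act : ∀ q : M, q * x4 = x4 * q → q * q * (q * q) = 1 →
    v1 * (q * (⟨0, 3⟩ : M)⁻¹ * v1 * (q * (⟨0, 3⟩ : M)⁻¹)⁻¹) ∈ UL := by decide +kernel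

end Cfsg.Agent.Lib.Jk
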